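import Mathlib
import Cfsg.Prelude.Def_Local
import Cfsg.Prelude.Def_Amalgam
import Cfsg.Agent.Lib.Components.FStar
import Cfsg.Agent.Lib.Components.LocalLayer
import Cfsg.Agent.Lib.Base.MinNonNilpotent

/-!
The subgroup generated by the `p'`-elements of the generalized Fitting subgroup of a subgroup.
-/

set_option autoImplicit false
set_option linter.style.haveILetI false
set_option linter.unusedSectionVars false

namespace CfsgLib.Flavell.Balance

open Cfsg Subgroup CfsgLib.Base CfsgLib.Components

variable {X : Type*} [Group X] {Y : Type*} [Group Y] {p : ℕ}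

/-- The subgroup generated by the `p'`-elements of `K`. -/
def ppGen (p : ℕ) (K : Subgroup X) : Subgroup X :=
  closure {x | x ∈ K ∧ (orderOf x).Coprime p}

/-- `F*(H)` in the ambient group. -/
def fs (H : Subgroup X) : Subgroup X := (generalizedFittingSubgroup ↥H).map H.subtype

/-- `O^p(F*(H))` in the ambient group. -/
def dres (p : ℕ) (H : Subgroup X) : Subgroup X := ppGen p (fs H)

theorem ppGen_le (K : Subgroup X) : ppGen p K ≤ K := (closure_le _).2 fun _ h => h.1

theorem mem_ppGen {K : Subgroup X} {x : X} (hx : x ∈ K) (h : (orderOf x).Coprime p) : x ∈ ppGen p K :=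
  subset_closure ⟨hx, h⟩

theorem ppGen_le_iff {K B : Subgroup X} :
    ppGen p K ≤ B ↔ ∀ x ∈ K, (orderOf x).Coprime p → x ∈ B :=
  ⟨fun h _ hx hc => h (mem_ppGen hx hc), fun h => (closure_le _).2 fun x hx => h x hx.1 hx.2⟩

theorem ppGen_mono {K L : Subgroup X} (h : K ≤ L) : ppGen p K ≤ ppGen p L :=
  ppGen_le_iff.2 fun _ hx hc => mem_ppGen (h hx) hc

theorem ppGen_ppGen (K : Subgroup X) : ppGen p (ppGen p K) = ppGen p K :=
  le_antisymm (ppGen_le _) (ppGen_le_iff.2 fun _ hx hc => mem_ppGen (mem_ppGen hx hc) hc)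

theorem ppGen_map {f : X →* Y} (hf : Function.Injective f) (K : Subgroup X) :
    (ppGen p K).map f = ppGen p (K.map f) := by
  rw [ppGen, ppGen, MonoidHom.map_closure]
  congr 1
  ext y
  constructor
  · rintro ⟨x, ⟨hx, hc⟩, rfl⟩
    exact ⟨mem_map_of_mem f hx, by rwa [orderOf_injective f hf]⟩
  · rintro ⟨⟨x, hx, rfl⟩, hc⟩
    exact ⟨x, ⟨hx, by rwa [orderOf_injective f hf] at hc⟩, rfl⟩

theorem map_pResidual_eq (K : Subgroup X) :
    (pResidual p ↥K).map K.subtype = ppGen p K := by
  have h : pResidual p ↥K = ppGen p (⊤ : Subgroup ↥K) := by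
    simp [pResidual, ppGen]
  rw [h, ppGen_map K.subtype_injective, ← MonoidHom.range_eq_map, range_subtype]

theorem normalizer_le_normalizer_ppGen (K : Subgroup X) :
    normalizer (K : Set X) ≤ normalizer (ppGen p K : Set X) := by
  intro g hg
  rw [← map_conj_eq_self_iff, ppGen_map (MulAut.conj g).injective, map_conj_eq_self_iff.2 hg]

theorem dres_eq (H : Subgroup X) :
    ((pResidual p ↥(generalizedFittingSubgroup ↥H)).map
      (generalizedFittingSubgroup ↥H).subtype).map H.subtype = dres p H := by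
  rw [map_pResidual_eq, ppGen_map H.subtype_injective]
  rfl

theorem fs_le (H : Subgroup X) : fs H ≤ H := map_subtype_le _

theorem normalizer_le_normalizer_fs (H : Subgroup X) :
    normalizer (H : Set X) ≤ normalizer (fs H : Set X) := normalizer_le_normalizer_map_subtype H _

theorem fs_map {f : X →* Y} (hf : Function.Injective f) (H : Subgroup X) :
    fs (H.map f) = (fs H).map f := by
  rw [fs, ← fstar_map_equiv (H.equivMapOfInjective f hf), fs, Subgroup.map_map, Subgroup.map_map]
  rfl

theorem dres_le (H : Subgroup X) : dres p H ≤ H := (ppGen_le _).trans (fs_le H)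

theorem dres_le_fs (H : Subgroup X) : dres p H ≤ fs H := ppGen_le _

theorem normalizer_le_normalizer_dres (H : Subgroup X) :
    normalizer (H : Set X) ≤ normalizer (dres p H : Set X) :=
  (normalizer_le_normalizer_fs H).trans (normalizer_le_normalizer_ppGen _)

theorem dres_map {f : X →* Y} (hf : Function.Injective f) (H : Subgroup X) :
    dres p (H.map f) = (dres p H).map f := by
  rw [dres, fs_map hf, dres, ppGen_map hf]

theorem op_le (H : Subgroup X) : pCoreOf p H ≤ H := map_subtype_le _

theorem isPGroup_op (H : Subgroup X) : IsPGroup p ↥(pCoreOf p H) := isPGroup_map_pCore p H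

theorem normalizer_le_normalizer_op (H : Subgroup X) :
    normalizer (H : Set X) ≤ normalizer (pCoreOf p H : Set X) :=
  normalizer_le_normalizer_map_subtype H _

theorem le_op {H U : Subgroup X} (hUH : U ≤ H) (hn : H ≤ normalizer (U : Set X)) (hp : IsPGroup p ↥U) :
    U ≤ pCoreOf p H :=
  le_map_pCore hUH hn hp

theorem op_mono {N H : Subgroup X} (hNH : N ≤ H) (hn : H ≤ normalizer (N : Set X)) :
    pCoreOf p N ≤ pCoreOf p H :=
  le_op ((op_le N).trans hNH) (hn.trans (normalizer_le_normalizer_op N)) (isPGroup_op N)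

theorem op_map {f : X →* Y} (hf : Function.Injective f) (H : Subgroup X) :
    pCoreOf p (H.map f) = (pCoreOf p H).map f := by
  rw [pCoreOf, ← map_pCore_mulEquiv (H.equivMapOfInjective f hf), pCoreOf, Subgroup.map_map,
    Subgroup.map_map]
  rfl

variable [Finite X] [Fact p.Prime]

theorem op_le_fs (H : Subgroup X) : pCoreOf p H ≤ fs H :=
  map_mono ((pCore_le_fittingSubgroup p _).trans fitting_le_fstar)

theorem fs_eq_inf {N H : Subgroup X} (hNH : N ≤ H) (hn : H ≤ normalizer (N : Set X)) :
    fs N = fs H ⊓ N := by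
  haveI := normal_subgroupOf_of_le_normalizer hn
  have h1 := congrArg (fun K => K.map H.subtype) (map_fstar_eq_inf (N.subgroupOf H))
  rw [Subgroup.map_inf _ _ _ H.subtype_injective, map_subgroupOf_eq_of_le hNH] at h1
  have h2 := fs_map H.subtype_injective (N.subgroupOf H)
  rw [map_subgroupOf_eq_of_le hNH] at h2
  exact h2.trans h1

theorem dres_mono {N H : Subgroup X} (hNH : N ≤ H) (hn : H ≤ normalizer (N : Set X)) :
    dres p N ≤ dres p H :=
  ppGen_mono ((fs_eq_inf hNH hn).le.trans inf_le_left)

theorem centralizer_fs_le (H : Subgroup X) : H ⊓ centralizer (fs H : Set X) ≤ fs H := by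
  rintro x ⟨hxH, hx⟩
  refine ⟨⟨x, hxH⟩, centralizer_fstar_le (mem_centralizer_iff.2 fun y hy => Subtype.ext ?_), rfl⟩
  exact mem_centralizer_iff.1 hx _ (mem_map_of_mem H.subtype hy)

section Structure

variable {G : Type*} [Group G] [Finite G]

/-- The `p'`-elements of `F*(G)` together with `O_p(G)`. -/
theorem fstar_le_sup :
    generalizedFittingSubgroup G ≤ pCore p G ⊔
      (ppGen p (generalizedFittingSubgroup G) ⊓ centralizer (pCore p G : Set G)) := by
  refine sup_le (layer_le_iff.2 fun L hL => le_sup_of_le_right (le_inf ?_ ?_)) ?_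
  · exact le_of_perfect_of_pPrime_elements (component_commutator_self hL)
      fun q hq hc => mem_ppGen (layer_le_fstar (component_le_layer hL hq)) hc
  · exact (component_le_centralizer_fitting hL).trans
      (centralizer_le (pCore_le_fittingSubgroup p G))
  · intro x hx
    haveI := isNilpotent_fittingSubgroup G
    obtain ⟨a, ha, b, hb, hab, ⟨k, hk⟩, hbp⟩ := CfsgLib.Transfer.exists_pPart_mul (p := p) x
    have ha' : a ∈ fittingSubgroup G := zpowers_le.2 hx ha
    have hb' : b ∈ fittingSubgroup G := zpowers_le.2 hx hb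
    rw [← hab]
    refine mul_mem_sup ?_ ⟨mem_ppGen (fitting_le_fstar hb') hbp, mem_centralizer_iff.2 fun c hc => ?_⟩
    · have hp : IsPGroup p ↥(zpowers (⟨a, ha'⟩ : ↥(fittingSubgroup G))) := by
        obtain ⟨i, -, hi⟩ := (Nat.dvd_prime_pow (Fact.out : p.Prime)).1 hk
        exact IsPGroup.of_card (n := i) (by rw [Nat.card_zpowers, orderOf_mk, hi])
      obtain ⟨P, hP⟩ := hp.exists_le_sylow
      have htfae : ∀ (q : ℕ), Fact q.Prime → ∀ Q : Sylow q ↥(fittingSubgroup G),
          (Q : Subgroup ↥(fittingSubgroup G)).Normal :=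
        ((Group.isNilpotent_of_finite_tfae (G := ↥(fittingSubgroup G))).out 0 3).1 (isNilpotent_fittingSubgroup G)
      haveI : (P : Subgroup ↥(fittingSubgroup G)).Normal := htfae p inferInstance P
      rw [← map_pCore_fittingSubgroup p G]
      exact ⟨⟨a, ha'⟩, le_pCore P.2 (hP (mem_zpowers _)), rfl⟩
    · exact mem_centralizer_iff.1 (MinNonNilpotent.commute_of_nilpotent inferInstance (isPGroup_pCore p G)
        (pCore_le_fittingSubgroup p G) hb' hbp) c hc

/-- An element of `F*(G)` of order prime to `p` centralises `O_p(G)`. -/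
theorem mem_centralizer_pCore {y : G} (hy : y ∈ generalizedFittingSubgroup G)
    (hc : (orderOf y).Coprime p) : y ∈ centralizer (pCore p G : Set G) := by
  set C := ppGen p (generalizedFittingSubgroup G) ⊓ centralizer (pCore p G : Set G) with hC
  haveI : (ppGen p (generalizedFittingSubgroup G)).Normal := normalizer_eq_top_iff.1
    (top_unique ((normalizer_eq_top (H := generalizedFittingSubgroup G)).ge.trans
      (normalizer_le_normalizer_ppGen _)))
  haveI : C.Normal := by rw [hC]; infer_instance
  obtain ⟨z, hz, c, hc', rfl⟩ := mem_sup_of_normal_right.1 (fstar_le_sup (p := p) hy)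
  set q := QuotientGroup.mk' C with hq
  have h0 : q c = 1 := (QuotientGroup.eq_one_iff c).2 hc'
  obtain ⟨i, hi⟩ := IsPGroup.iff_orderOf.1 (isPGroup_pCore p G) ⟨z, hz⟩
  rw [orderOf_mk] at hi
  have h1 : orderOf (q z) ∣ p ^ i := hi ▸ orderOf_map_dvd q z
  have h2 : orderOf (q z) ∣ orderOf (z * c) := by
    have := orderOf_map_dvd q (z * c)
    rwa [map_mul, h0, mul_one] at this
  have h3 : q z = 1 := orderOf_eq_one_iff.1 (Nat.eq_one_of_dvd_coprimes (hc.pow_right i) h2 h1)
  exact (C.mul_mem ((QuotientGroup.eq_one_iff z).1 h3) hc').2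

end Structure

theorem fs_le_sup (H : Subgroup X) : fs H ≤ pCoreOf p H ⊔ dres p H := by
  refine (map_mono (fstar_le_sup (p := p))).trans ?_
  rw [Subgroup.map_sup]
  refine sup_le_sup le_rfl ((map_mono inf_le_left).trans ?_)
  rw [ppGen_map H.subtype_injective]
  exact le_rfl

theorem dres_le_centralizer_op (H : Subgroup X) :
    dres p H ≤ centralizer (pCoreOf p H : Set X) := by
  refine ppGen_le_iff.2 fun x hx hc => ?_
  obtain ⟨y, hy, rfl⟩ := hx
  rw [coe_subtype, orderOf_coe] at hc
  refine mem_centralizer_iff.2 ?_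
  rintro _ ⟨z, hz, rfl⟩
  exact congrArg Subtype.val (mem_centralizer_iff.1 (mem_centralizer_pCore hy hc) z hz)

end CfsgLib.Flavell.Balance
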