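import Mathlib
import Cfsg.Agent.Lib.Flavell.Balance.Basic
import Cfsg.Agent.Lib.Coprime.Action

/-!
Coprime operators centralizing `O^p(F*)` of a subgroup.
-/

set_option autoImplicit false
set_option linter.style.haveILetI false
set_option linter.unusedSectionVars false

namespace CfsgLib.Flavell.Balance

open Cfsg Subgroup CfsgLib.Components
open scoped commutatorElement

variable {X : Type*} [Group X]

/-- `C_G(b)`. -/
def cb (G : Subgroup X) (b : X) : Subgroup X := G ⊓ centralizer ({b} : Set X)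

/-- The local hypothesis. -/
def Hyp (p : ℕ) (G A : Subgroup X) : Prop :=
  ∀ a ∈ A, a ≠ 1 → A ≤ centralizer (dres p (cb G a) : Set X)

theorem cb_le (G : Subgroup X) (b : X) : cb G b ≤ G := inf_le_left

theorem cb_mono {G H : Subgroup X} (h : H ≤ G) (b : X) : cb H b ≤ cb G b := inf_le_inf_right _ h

theorem centralizer_subgroup_le_cb {G A : Subgroup X} {b : X} (hb : b ∈ A) :
    G ⊓ centralizer (A : Set X) ≤ cb G b :=
  inf_le_inf_left _ (centralizer_le (Set.singleton_subset_iff.2 hb))

theorem le_normalizer_cb {G A : Subgroup X} [IsMulCommutative A] (hn : A ≤ normalizer (G : Set X))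
    {b : X} (hb : b ∈ A) : A ≤ normalizer (cb G b : Set X) :=
  CfsgLib.Coprime.le_normalizer_inf_inf hn
    (((le_centralizer_iff_isMulCommutative.2 inferInstance : A ≤ centralizer (A : Set X)).trans
      (centralizer_le (Set.singleton_subset_iff.2 hb))).trans le_normalizer)

theorem coprime_card {G A H : Subgroup X} {r : ℕ} [Fact r.Prime] [Finite X] (hA : IsPGroup r ↥A)
    (hcop : (Nat.card ↥G).Coprime r) (h : H ≤ G) : (Nat.card A).Coprime (Nat.card H) := by
  obtain ⟨k, hk⟩ := IsPGroup.iff_card.1 hA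
  rw [hk]
  exact (Nat.Coprime.pow_right k (hcop.coprime_dvd_left (card_dvd_of_le h))).symm

theorem isSolvable_operators {A : Subgroup X} {r : ℕ} [Fact r.Prime] [Finite X]
    (hA : IsPGroup r ↥A) : Group.IsSolvable ↥A :=
  haveI := hA.isNilpotent
  inferInstance

section Elements

variable {p : ℕ}

theorem eq_one_of_pow {W : Subgroup X} (hW : IsPGroup p ↥W) {c : X} (hc : c ∈ W) {n : ℕ}
    (hn : n.Coprime p) (h : c ^ n = 1) : c = 1 := by
  obtain ⟨k, hk⟩ := hW ⟨c, hc⟩
  exact orderOf_eq_one_iff.1 (Nat.eq_one_of_dvd_coprimes (hn.pow_right k) (orderOf_dvd_of_pow_eq_one h)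
    (orderOf_dvd_of_pow_eq_one (congrArg Subtype.val hk)))

/-- A `p'`-element commuting with its displacement of a `p`-element fixes it. -/
theorem commute_of_displacement {W : Subgroup X} (hW : IsPGroup p ↥W) {y w : X}
    (hy : (orderOf y).Coprime p) (hc : y * w * y⁻¹ * w⁻¹ ∈ W) (h : Commute y (y * w * y⁻¹ * w⁻¹)) :
    y * w = w * y := by
  set c := y * w * y⁻¹ * w⁻¹ with hcdef
  have h1 : ∀ i : ℕ, y ^ i * w * (y ^ i)⁻¹ = c ^ i * w := by
    intro i
    induction i with
    | zero => simp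
    | succ i ih =>
      calc y ^ (i + 1) * w * (y ^ (i + 1))⁻¹
          = y * (y ^ i * w * (y ^ i)⁻¹) * y⁻¹ := by rw [pow_succ']; group
        _ = y * c ^ i * y⁻¹ * (y * w * y⁻¹) := by rw [ih]; group
        _ = c ^ i * (y * w * y⁻¹) := by rw [(h.pow_right i).eq, mul_inv_cancel_right]
        _ = c ^ (i + 1) * w := by rw [pow_succ, hcdef]; group
  have h2 := h1 (orderOf y)
  rw [pow_orderOf_eq_one, one_mul, inv_one, mul_one, right_eq_mul] at h2
  have h3 := eq_one_of_pow hW hc hy h2
  rwa [hcdef, mul_inv_eq_one, mul_inv_eq_iff_eq_mul] at h3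

/-- An automorphism displacing a `p'`-element by a commuting `p`-element fixes it. -/
theorem commute_of_displaced {W : Subgroup X} (hW : IsPGroup p ↥W) {a d : X}
    (hd : (orderOf d).Coprime p) (hc : a * d * a⁻¹ * d⁻¹ ∈ W)
    (h : Commute (a * d * a⁻¹ * d⁻¹) d) : a * d = d * a := by
  set c := a * d * a⁻¹ * d⁻¹ with hcdef
  have h1 : (a * d * a⁻¹) ^ orderOf d = 1 := by
    rw [conj_pow, pow_orderOf_eq_one, mul_one, mul_inv_cancel]
  rw [show a * d * a⁻¹ = c * d from by rw [hcdef]; group, h.mul_pow, pow_orderOf_eq_one, mul_one] at h1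
  have h3 := eq_one_of_pow hW hc hd h1
  rwa [hcdef, mul_inv_eq_one, mul_inv_eq_iff_eq_mul] at h3

end Elements

variable [Finite X] {p r : ℕ} [Fact p.Prime] [Fact r.Prime]

/-- A normal subgroup generated by `p'`-elements and centralizing `O_p` centralizes every `p`-subgroup
it normalizes. -/
theorem le_centralizer_of_normalizes {D M W : Subgroup X} (hDM : D ≤ M)
    (hMD : M ≤ normalizer (D : Set X)) (hgen : ppGen p D = D)
    (hcent : D ≤ centralizer (pCoreOf p M : Set X)) (hWM : W ≤ M) (hW : IsPGroup p ↥W)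
    (hDW : D ≤ normalizer (W : Set X)) : D ≤ centralizer (W : Set X) := by
  have hI : W ⊓ D ≤ pCoreOf p M :=
    (le_op inf_le_right (CfsgLib.Coprime.le_normalizer_inf_inf hDW le_normalizer)
      (hW.to_le inf_le_left)).trans (op_mono hDM hMD)
  conv_lhs => rw [← hgen]
  refine ppGen_le_iff.2 fun y hy hyc => mem_centralizer_iff.2 fun w hw => ?_
  have h1 : y * w * y⁻¹ * w⁻¹ ∈ W :=
    W.mul_mem ((mem_normalizer_iff.1 (hDW hy) w).1 hw) (W.inv_mem hw)
  have h2 : y * w * y⁻¹ * w⁻¹ ∈ D := by
    rw [show y * w * y⁻¹ * w⁻¹ = y * (w * y⁻¹ * w⁻¹) by group]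
    exact D.mul_mem hy ((mem_normalizer_iff.1 (hMD (hWM hw)) _).1 (D.inv_mem hy))
  exact (commute_of_displacement hW hyc h1
    (mem_centralizer_iff.1 (hcent hy) _ (hI ⟨h1, h2⟩)).symm).symm

variable {G A : Subgroup X}

theorem commutator_le_centralizer_dres {N : Subgroup X}
    (hN : A ≤ centralizer (dres p N : Set X)) : ⁅N, A⁆ ≤ centralizer (dres p N : Set X) := by
  have h0 : ⁅A, dres p N⁆ = ⊥ := commutator_eq_bot_iff_le_centralizer.2 hN
  have hDN : ⁅dres p N, N⁆ ≤ dres p N :=
    le_normalizer_iff_commutator_le_left.1 (le_normalizer.trans (normalizer_le_normalizer_dres N))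
  refine commutator_eq_bot_iff_le_centralizer.1 (commutator_commutator_eq_bot_of_rotate ?_ ?_)
  · rw [h0, commutator_bot_left]
  · refine le_bot_iff.1 ((commutator_mono hDN le_rfl).trans ?_)
    rw [commutator_comm, h0]

theorem commutator_le_op {N Y : Subgroup X} (hA : IsPGroup r ↥A) (hcop : (Nat.card ↥G).Coprime r)
    (hNG : N ≤ G) (hAN : A ≤ normalizer (N : Set X)) (hN : A ≤ centralizer (dres p N : Set X))
    (hYN : Y ≤ N) (hAY : A ≤ normalizer (Y : Set X)) (hY : Y ≤ centralizer (pCoreOf p N : Set X)) :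
    ⁅Y, A⁆ ≤ pCoreOf p N := by
  have hZY : ⁅Y, A⁆ ≤ Y := CfsgLib.Coprime.commutator_le_of_le_normalizer hAY
  have hZ : ⁅Y, A⁆ ≤ fs N := by
    refine le_trans (le_inf (hZY.trans hYN) ?_) (centralizer_fs_le N)
    rw [le_centralizer_iff]
    refine (fs_le_sup (p := p) N).trans (sup_le ?_ ?_)
    · exact le_centralizer_iff.1 (hZY.trans hY)
    · exact le_centralizer_iff.1 ((commutator_mono hYN le_rfl).trans (commutator_le_centralizer_dres hN))
  rw [← CfsgLib.Coprime.commutator_commutator_eq hAY (coprime_card hA hcop (hYN.trans hNG))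
    (Or.inl (isSolvable_operators hA))]
  refine commutator_le.2 fun z hz a ha => ?_
  have hz' := fs_le_sup (p := p) N (hZ hz)
  rw [← SetLike.mem_coe, coe_mul_of_right_le_normalizer_left _ _
    ((dres_le N).trans (le_normalizer.trans (normalizer_le_normalizer_op N)))] at hz'
  obtain ⟨u, hu, d, hd, rfl⟩ := hz'
  have h1 : d * a * d⁻¹ = a := by
    rw [mem_centralizer_iff.1 (hN ha) d hd, mul_inv_cancel_right]
  have h2 : a * u⁻¹ * a⁻¹ ∈ pCoreOf p N :=
    (mem_normalizer_iff.1 ((hAN.trans (normalizer_le_normalizer_op N)) ha) _).1 (inv_mem hu)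
  rw [show ⁅u * d, a⁆ = u * (d * a * d⁻¹) * u⁻¹ * a⁻¹ by rw [commutatorElement_def]; group, h1,
    show u * a * u⁻¹ * a⁻¹ = u * (a * u⁻¹ * a⁻¹) by group]
  exact mul_mem hu h2

/-- A subgroup of `N` generated by `p'`-elements and centralizing `O_p(N)` is centralized. -/
theorem le_centralizer_of_centralizes_op {N D : Subgroup X} (hA : IsPGroup r ↥A)
    (hcop : (Nat.card ↥G).Coprime r) (hNG : N ≤ G) (hAN : A ≤ normalizer (N : Set X))
    (hN : A ≤ centralizer (dres p N : Set X)) (hDN : D ≤ N) (hAD : A ≤ normalizer (D : Set X))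
    (hgen : ppGen p D = D) (hD : D ≤ centralizer (pCoreOf p N : Set X)) :
    A ≤ centralizer (D : Set X) := by
  have h := commutator_le_op hA hcop hNG hAN hN hDN hAD hD
  rw [le_centralizer_iff]
  conv_lhs => rw [← hgen]
  refine ppGen_le_iff.2 fun d hd hdc => mem_centralizer_iff.2 fun a ha => ?_
  have hc : a * d * a⁻¹ * d⁻¹ ∈ pCoreOf p N := by
    have := inv_mem (h (commutator_mem_commutator hd ha))
    rwa [commutatorElement_inv, commutatorElement_def] at this
  exact commute_of_displaced (isPGroup_op N) hdc hc (mem_centralizer_iff.1 (hD hd) _ hc)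

variable [IsMulCommutative A]

/-- The hypothesis passes to invariant subgroups containing every `O_p(C_G(b))`. -/
theorem hyp_of_le {H : Subgroup X} (hA : IsPGroup r ↥A) (hn : A ≤ normalizer (G : Set X))
    (hcop : (Nat.card ↥G).Coprime r) (hloc : Hyp p G A) (hHG : H ≤ G)
    (hAH : A ≤ normalizer (H : Set X)) (hT : ∀ b ∈ A, b ≠ 1 → pCoreOf p (cb G b) ≤ H) :
    Hyp p H A := by
  intro b hb hb1
  have hle : cb H b ≤ cb G b := cb_mono hHG b
  refine le_centralizer_of_centralizes_op hA hcop (cb_le G b) (le_normalizer_cb hn hb) (hloc b hb hb1)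
    ((dres_le _).trans hle) ((le_normalizer_cb hAH hb).trans (normalizer_le_normalizer_dres _))
    (ppGen_ppGen _) ((dres_le_centralizer_op _).trans (centralizer_le ?_))
  exact le_op (le_inf (hT b hb hb1) ((op_le _).trans inf_le_right))
    (hle.trans (le_normalizer.trans (normalizer_le_normalizer_op _))) (isPGroup_op _)

/-- The hypothesis passes to normal subgroups. -/
theorem hyp_of_normal {H : Subgroup X} (hloc : Hyp p G A) (hHG : H ≤ G)
    (hGH : G ≤ normalizer (H : Set X)) : Hyp p H A := fun b hb hb1 =>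
  (hloc b hb hb1).trans (centralizer_le (dres_mono (cb_mono hHG b)
    (CfsgLib.Coprime.le_normalizer_inf_inf ((cb_le G b).trans hGH)
      (inf_le_right.trans le_normalizer))))

end CfsgLib.Flavell.Balance
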