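import Mathlib
import Cfsg.Agent.Lib.Flavell.Balance.Invariant
import Cfsg.Agent.Lib.Flavell.Chief
import Cfsg.Agent.Lib.KInf.Normal

/-!
The K-infinity subgroup of an intersection of invariant Sylow subgroups, modulo a central `p'`-subgroup.
-/

set_option autoImplicit false
set_option linter.style.haveILetI false
set_option linter.unusedSectionVars false

namespace CfsgLib.Flavell.Balance

open Cfsg Subgroup CfsgLib.Flavell CfsgLib.Base

universe u

variable {X : Type u} [Group X] [Finite X] {p r : ℕ} [Fact p.Prime] [Fact r.Prime]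

theorem le_normalizer_kInf {H A Zd Q : Subgroup X} (hquad : QuadInPCore.{u} p r)
    (hA : IsPGroup r ↥A) (hcop : (Nat.card ↥H).Coprime r) (hn : A ≤ normalizer (H : Set X))
    (hne : pCoreOf p H ≠ ⊥) (hZH : Zd ≤ H) (hZcop : (Nat.card ↥Zd).Coprime p)
    (hZc : H ≤ centralizer (Zd : Set X)) (hAZ : A ≤ centralizer (Zd : Set X))
    (hc : H ⊓ centralizer (pCoreOf p H : Set X) ≤ pCoreOf p H ⊔ Zd)
    (hTQ : pCoreOf p H ≤ Q) (hQH : Q ≤ H) (hQp : IsPGroup p ↥Q)
    (hQS : ∀ S : Subgroup X, IsInvP p H A S → IsPGroup p ↥(S ⊔ Q : Subgroup X)) :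
    H ≤ normalizer (((Cfsg.kInfLower.{u} ↥Q).map Q.subtype : Subgroup X) : Set X) := by
  classical
  set N := Zd.subgroupOf H with hN
  have hNc : N ≤ center H := fun z hz => mem_center_iff.2 fun g => Subtype.ext
    ((mem_centralizer_iff.1 (hZc g.2) (z : X) hz).symm)
  haveI hNn : N.Normal := normal_of_le_center hNc
  set π := QuotientGroup.mk' N with hπ
  have hπs : Function.Surjective π := QuotientGroup.mk'_surjective N
  have hπ1 : ∀ {x : H}, π x = 1 ↔ (x : X) ∈ Zd := fun {x} => QuotientGroup.eq_one_iff x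
  let φ : A →* MulAut H := (H.normalizerMonoidHom).comp (Subgroup.inclusion hn)
  have hφ : ∀ (a : A) (x : H), ((φ a x : H) : X) = (a : X) * x * (a : X)⁻¹ := fun a x => rfl
  have hφN : ∀ (a : A) (x : H), x ∈ N → φ a x = x := fun a x hx => Subtype.ext (by
    rw [hφ, ← mem_centralizer_iff.1 (hAZ a.2) (x : X) hx, mul_inv_cancel_right])
  have hmap : ∀ a : A, N.map (φ a).toMonoidHom = N := fun a => le_antisymm
    (by rintro _ ⟨x, hx, rfl⟩; rw [MulEquiv.toMonoidHom_eq_coe, MonoidHom.coe_coe, hφN a x hx]; exact hx)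
    fun x hx => ⟨x, hx, hφN a x hx⟩
  let ψ : A →* MulAut (H ⧸ N) :=
    { toFun := fun a => QuotientGroup.congr N N (φ a) (hmap a)
      map_one' := MulEquiv.ext fun x => QuotientGroup.induction_on x fun y => by
        simp [map_one]
      map_mul' := fun a b => MulEquiv.ext fun x => QuotientGroup.induction_on x fun y => by
        simp [map_mul]
        rfl }
  have hψ : ∀ (a : A) (x : H), ψ a (π x) = π (φ a x) := fun a x => rfl
  set T := pCoreOf p H with hT
  have hcoreT : (pCore p H).map π ≤ pCore p (H ⧸ N) := map_pCore_le π hπs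
  have hTn : ∀ {x : X}, x ∈ Zd → ∀ {W : Subgroup X}, IsPGroup p ↥W → x ∈ W → x = 1 := by
    intro x hx W hW hxW
    refine eq_one_of_pow hW hxW hZcop ?_
    exact congrArg Subtype.val (pow_card_eq_one' (x := (⟨x, hx⟩ : Zd)))
  have hne' : pCore p (H ⧸ N) ≠ ⊥ := by
    intro h
    refine hne (le_bot_iff.1 fun x hx => ?_)
    obtain ⟨y, hy, rfl⟩ := hx
    have h1 : π y ∈ pCore p (H ⧸ N) := hcoreT (mem_map_of_mem π hy)
    rw [h, mem_bot, hπ1] at h1
    exact mem_bot.2 (hTn h1 (isPGroup_op (p := p) H) (mem_map_of_mem H.subtype hy))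
  have hcore : pCore p (H ⧸ N) ≤ (pCore p H).map π := by
    set K := (pCore p (H ⧸ N)).comap π with hK
    haveI : K.Normal := (inferInstance : (pCore p (H ⧸ N)).Normal).comap π
    let S : Sylow p K := default
    let f : K →* pCore p (H ⧸ N) :=
      { toFun := fun x => ⟨π x, x.2⟩
        map_one' := Subtype.ext (map_one π)
        map_mul' := fun x y => Subtype.ext (map_mul π _ _) }
    have hf : Function.Surjective f := by
      rintro ⟨y, hy⟩
      obtain ⟨x, rfl⟩ := hπs y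
      exact ⟨⟨x, hy⟩, rfl⟩
    have htop : (S.mapSurjective hf : Subgroup (pCore p (H ⧸ N))) = ⊤ :=
      ((S.mapSurjective hf).3 ((isPGroup_pCore p (H ⧸ N)).to_subgroup ⊤) le_top).symm
    have hdec : ∀ x : K, ∃ s ∈ (S : Subgroup K), π (s : H) = π x := by
      intro x
      have h1 : f x ∈ (S.mapSurjective hf : Subgroup _) := htop ▸ mem_top _
      obtain ⟨s, hs, e⟩ := h1
      exact ⟨s, hs, congrArg Subtype.val e⟩
    haveI hSn : (S : Subgroup K).Normal := ⟨fun w hw x => by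
      obtain ⟨s, hs, e⟩ := hdec x
      have h1 : ((s⁻¹ * x : K) : H) ∈ center H := hNc (by
        rw [← QuotientGroup.eq_one_iff]
        show π _ = 1
        rw [Subgroup.coe_mul, Subgroup.coe_inv, map_mul, map_inv, e, inv_mul_cancel])
      have h2 : (s⁻¹ * x) * w = w * (s⁻¹ * x) :=
        Subtype.ext (mem_center_iff.1 h1 (w : H)).symm
      rw [show x * w * x⁻¹ = s * (s⁻¹ * x * w) * x⁻¹ by group, h2,
        show s * (w * (s⁻¹ * x)) * x⁻¹ = s * w * s⁻¹ by group]
      exact mul_mem (mul_mem hs hw) (inv_mem hs)⟩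
    haveI : (S : Subgroup K).Characteristic := S.characteristic_of_normal hSn
    haveI : ((S : Subgroup K).map K.subtype).Normal := inferInstance
    intro y hy
    obtain ⟨x, rfl⟩ := hπs y
    obtain ⟨s, hs, e⟩ := hdec ⟨x, hy⟩
    exact ⟨s, le_pCore (S.2.map K.subtype) (mem_map_of_mem K.subtype hs), e⟩
  have hc' : centralizer ((pCore p (H ⧸ N) : Subgroup (H ⧸ N)) : Set (H ⧸ N)) ≤ pCore p (H ⧸ N) := by
    intro x hx
    obtain ⟨y, rfl⟩ := hπs x
    have hy : (y : X) ∈ centralizer (T : Set X) := by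
      refine mem_centralizer_iff.2 ?_
      rintro _ ⟨t, ht, rfl⟩
      have h1 : (((y * t * y⁻¹ * t⁻¹ : H)) : X) ∈ Zd := by
        rw [← hπ1, map_mul, map_mul, map_mul, map_inv, map_inv,
          ← mem_centralizer_iff.1 hx _ (hcoreT (mem_map_of_mem π ht))]
        group
      have h2 : y * t * y⁻¹ * t⁻¹ ∈ pCore p H :=
        mul_mem ((inferInstance : (pCore p H).Normal).conj_mem t ht y) (inv_mem ht)
      have h3 := hTn h1 (isPGroup_op (p := p) H) (mem_map_of_mem H.subtype h2)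
      rw [Subgroup.coe_mul, Subgroup.coe_mul, Subgroup.coe_mul, Subgroup.coe_inv, Subgroup.coe_inv,
        mul_inv_eq_one, mul_inv_eq_iff_eq_mul] at h3
      exact h3.symm
    have h4 := hc ⟨y.2, hy⟩
    rw [← SetLike.mem_coe, coe_mul_of_right_le_normalizer_left _ _
      (hZH.trans (le_normalizer.trans (normalizer_le_normalizer_op H)))] at h4
    obtain ⟨t, ⟨t', ht', rfl⟩, z, hz, e⟩ := h4
    have h5 : π y = π t' := by
      rw [show y = t' * ⟨z, hZH hz⟩ from Subtype.ext e.symm, map_mul,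
        (hπ1 (x := ⟨z, hZH hz⟩)).2 hz, mul_one]
    rw [h5]
    exact hcoreT (mem_map_of_mem π ht')
  set Qb := (Q.subgroupOf H).map π with hQb
  have hPQ : pCore p (H ⧸ N) ≤ Qb := by
    refine hcore.trans (map_mono fun x hx => ?_)
    exact mem_subgroupOf.2 (hTQ (mem_map_of_mem H.subtype hx))
  have hQS' : ∀ S : Sylow p (H ⧸ N), (∀ a ∈ ψ.range, ∀ x ∈ (S : Subgroup (H ⧸ N)), a x ∈ (S : Subgroup (H ⧸ N))) →
      Qb ≤ S := by
    intro S hS
    set R := ((S : Subgroup (H ⧸ N)).comap π).map H.subtype with hR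
    have hRH : R ≤ H := map_subtype_le _
    have hAR : A ≤ normalizer (R : Set X) := by
      have key : ∀ a ∈ A, ∀ x ∈ R, a * x * a⁻¹ ∈ R := by
        rintro a ha _ ⟨x, hx, rfl⟩
        exact ⟨φ ⟨a, ha⟩ x, hS _ ⟨⟨a, ha⟩, rfl⟩ _ hx, rfl⟩
      intro a ha
      refine mem_normalizer_iff.2 fun x => ⟨key a ha x, fun h => ?_⟩
      have := key a⁻¹ (inv_mem ha) _ h
      simpa [mul_assoc] using this
    obtain ⟨S1, hS1⟩ := CfsgLib.Coprime.exists_invariant_sylow (p := p) hAR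
      (coprime_card hA hcop hRH) (Or.inl (isSolvable_operators hA))
    set S2 := (S1 : Subgroup R).map R.subtype with hS2
    have hS2H : S2 ≤ H := (map_subtype_le _).trans hRH
    have hp := hQS S2 ⟨hS2H, S1.2.map _, hS1⟩
    set W := ((S2 ⊔ Q).subgroupOf H).map π with hW
    have hWp : IsPGroup p W := (hp.comap_of_injective H.subtype H.subtype_injective).map π
    let f : R →* (S : Subgroup (H ⧸ N)) :=
      { toFun := fun x => ⟨π ⟨x, hRH x.2⟩, by
          obtain ⟨⟨y, hy⟩, hy', e⟩ := x.2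
          have : (⟨x, hRH x.2⟩ : H) = ⟨y, hy⟩ := Subtype.ext e.symm
          rw [this]; exact hy'⟩
        map_one' := Subtype.ext (map_one π)
        map_mul' := fun x y => Subtype.ext (map_mul π ⟨x, hRH x.2⟩ ⟨y, hRH y.2⟩) }
    have hf : Function.Surjective f := by
      rintro ⟨y, hy⟩
      obtain ⟨x, rfl⟩ := hπs y
      exact ⟨⟨x, x, hy, rfl⟩, Subtype.ext rfl⟩
    have htop : (S1.mapSurjective hf : Subgroup (S : Subgroup (H ⧸ N))) = ⊤ :=
      ((S1.mapSurjective hf).3 (S.2.to_subgroup ⊤) le_top).symm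
    have hSW : (S : Subgroup (H ⧸ N)) ≤ W := by
      intro y hy
      have h1 : (⟨y, hy⟩ : (S : Subgroup (H ⧸ N))) ∈ (S1.mapSurjective hf : Subgroup _) := htop ▸ mem_top _
      obtain ⟨z, hz, e⟩ := h1
      exact ⟨⟨z, hRH z.2⟩, mem_subgroupOf.2 (mem_sup_left (mem_map_of_mem R.subtype hz)),
        congrArg Subtype.val e⟩
    rw [← S.3 hWp hSW]
    exact map_mono fun x hx => mem_subgroupOf.2 (mem_sup_right (mem_subgroupOf.1 hx))
  have hnormal := kInf_normal hquad (hA.of_surjective ψ.rangeRestrict ψ.rangeRestrict_surjective)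
    (hcop.coprime_dvd_left (card_quotient_dvd_card N)) hne' hc' (Q := Qb) hPQ hQS'
  let g : Q →* Qb :=
    { toFun := fun y => ⟨π ⟨y, hQH y.2⟩, mem_map_of_mem π (mem_subgroupOf.2 y.2)⟩
      map_one' := Subtype.ext (map_one π)
      map_mul' := fun x y => Subtype.ext (map_mul π ⟨x, hQH x.2⟩ ⟨y, hQH y.2⟩) }
  have hg : Function.Bijective g := by
    refine ⟨(injective_iff_map_eq_one g).2 fun y hy => ?_, ?_⟩
    · exact Subtype.ext (hTn (hπ1.1 (congrArg Subtype.val hy)) hQp y.2)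
    · rintro ⟨_, ⟨x, hx, rfl⟩⟩
      exact ⟨⟨x, hx⟩, rfl⟩
  have he := (CfsgLib.KInf.map_kInf_equiv (MulEquiv.ofBijective g hg)).1
  have key : ∀ h ∈ H, ∀ k ∈ (Cfsg.kInfLower.{u} ↥Q).map Q.subtype,
      h * k * h⁻¹ ∈ (Cfsg.kInfLower.{u} ↥Q).map Q.subtype := by
    rintro h hh _ ⟨k, hk, rfl⟩
    have h1 : π ⟨k, hQH k.2⟩ ∈ (Cfsg.kInfLower.{u} ↥Qb).map Qb.subtype :=
      ⟨g k, he ▸ mem_map_of_mem _ hk, rfl⟩
    have h2 := hnormal.conj_mem _ h1 (π ⟨h, hh⟩)
    rw [← map_inv, ← map_mul, ← map_mul, ← he] at h2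
    obtain ⟨_, ⟨k', hk', rfl⟩, e⟩ := h2
    refine ⟨k', hk', ?_⟩
    have hz : ((k' : X))⁻¹ * (h * k * h⁻¹) ∈ Zd := by
      have h3 : π ((⟨k', hQH k'.2⟩ : H)⁻¹ * (⟨h, hh⟩ * ⟨k, hQH k.2⟩ * ⟨h, hh⟩⁻¹)) = 1 := by
        rw [map_mul, map_inv, inv_mul_eq_one]
        exact e
      exact hπ1.1 h3
    set z := ((k' : X))⁻¹ * (h * k * h⁻¹) with hzdef
    have hcomm : Commute (k' : X) z := (mem_centralizer_iff.1 (hZc (hQH k'.2)) z hz).symm
    obtain ⟨i, hi⟩ := hQp k
    obtain ⟨j, hj⟩ := hQp k'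
    have hz1 : z ^ p ^ (i + j) = 1 := by
      have e1 : ((k' : X)) ^ p ^ (i + j) = 1 := by
        rw [pow_add, mul_comm, pow_mul, show ((k' : X)) ^ p ^ j = 1 from congrArg Subtype.val hj, one_pow]
      have e2 : ((k' : X) * z) ^ p ^ (i + j) = 1 := by
        rw [hzdef, mul_inv_cancel_left, conj_pow, pow_add, pow_mul,
          show ((k : X)) ^ p ^ i = 1 from congrArg Subtype.val hi, one_pow, mul_one, mul_inv_cancel]
      rwa [hcomm.mul_pow, e1, one_mul] at e2
    have hz0 : z = 1 := orderOf_eq_one_iff.1 (Nat.eq_one_of_dvd_coprimes (hZcop.pow_right (i + j))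
      (by simpa using orderOf_dvd_natCard (⟨z, hz⟩ : Zd)) (orderOf_dvd_of_pow_eq_one hz1))
    rw [hzdef, inv_mul_eq_one] at hz0
    exact hz0
  intro h hh
  refine mem_normalizer_iff.2 fun x => ⟨key h hh x, fun hx => ?_⟩
  have := key h⁻¹ (inv_mem hh) _ hx
  simpa [mul_assoc] using this

end CfsgLib.Flavell.Balance
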