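import Mathlib
import Cfsg.Agent.Lib.Flavell.Balance.KStep
import Cfsg.Agent.Lib.Components.PTimesQ
import Cfsg.Agent.Lib.Coprime.Action2

/-!
The local subgroups containing the centre of the intersection of the invariant Sylow subgroups.
-/

set_option autoImplicit false
set_option linter.style.haveILetI false
set_option linter.unusedSectionVars false

namespace CfsgLib.Flavell.Balance

open Cfsg Subgroup CfsgLib.Flavell CfsgLib.ThreeTransp CfsgLib.Base
open scoped commutatorElement Pointwise

universe u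

variable {X : Type u} [Group X] [Finite X] {p r : ℕ} [Fact p.Prime] [Fact r.Prime] {G A : Subgroup X}

/-- The K-infinity subgroup in the ambient group. -/
def kOf (Q : Subgroup X) : Subgroup X := (Cfsg.kInfLower.{u} ↥Q).map Q.subtype

theorem normalizer_le_normalizer_kOf (Q : Subgroup X) :
    normalizer (Q : Set X) ≤ normalizer (kOf Q : Set X) :=
  haveI := (CfsgLib.KInf.characteristic_kInf.{u} ↥Q).1
  normalizer_le_normalizer_map_subtype Q _

/-- The centre of `Q` in the ambient group. -/
def zOf (Q : Subgroup X) : Subgroup X := (center ↥Q).map Q.subtype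

theorem normalizer_le_normalizer_zOf (Q : Subgroup X) :
    normalizer (Q : Set X) ≤ normalizer (zOf Q : Set X) :=
  normalizer_le_normalizer_map_subtype Q _

theorem zOf_le (Q : Subgroup X) : zOf Q ≤ Q := map_subtype_le _

theorem le_centralizer_zOf (Q : Subgroup X) : Q ≤ centralizer (zOf Q : Set X) := by
  intro x hx
  refine mem_centralizer_iff.2 ?_
  rintro _ ⟨z, hz, rfl⟩
  exact (congrArg Subtype.val (mem_center_iff.1 hz ⟨x, hx⟩)).symm

theorem le_normalizer_of_key {S B : Subgroup X} (key : ∀ c ∈ S, ∀ x ∈ B, c * x * c⁻¹ ∈ B) :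
    S ≤ normalizer (B : Set X) := by
  intro c hc
  refine mem_normalizer_iff.2 fun x => ⟨key c hc x, fun h => ?_⟩
  have := key c⁻¹ (inv_mem hc) _ h
  simpa [mul_assoc] using this

theorem exists_sylow_eq (hA : IsPGroup r ↥A) (hn : A ≤ normalizer (G : Set X))
    (hcop : (Nat.card ↥G).Coprime r) {S : Subgroup X} (hS : IsInvSyl p G A S) :
    ∃ P : Sylow p G, (P : Subgroup G).map G.subtype = S := by
  obtain ⟨P, hSP, hPA⟩ := CfsgLib.Coprime.exists_invariant_sylow_ge (p := p) hn
    (coprime_card hA hcop le_rfl) (Or.inl (isSolvable_operators hA)) hS.1.1 hS.1.2.1 hS.1.2.2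
  exact ⟨P, le_antisymm (hS.2 ⟨map_subtype_le _, P.2.map _, hPA⟩ hSP) hSP⟩

theorem le_normalizer_invCap (hn : A ≤ normalizer (G : Set X)) {B : Subgroup X}
    (hBG : B ≤ normalizer (G : Set X)) (hBA : B ≤ normalizer (A : Set X)) :
    B ≤ normalizer (invCap p G A : Set X) :=
  le_normalizer_of_key fun _ hc _ hx => conj_mem_invCap (hBG hc) (hBA hc) hx

/-- Invariant `p`-subgroups normalised by `C_G(A)` lie in the intersection. -/
theorem le_invCap (hA : IsPGroup r ↥A) (hn : A ≤ normalizer (G : Set X))
    (hcop : (Nat.card ↥G).Coprime r) {U : Subgroup X} (hU : IsInvP p G A U)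
    (hCU : G ⊓ centralizer (A : Set X) ≤ normalizer (U : Set X)) : U ≤ invCap p G A := by
  intro u hu
  refine mem_invCap.2 ⟨hU.1 hu, fun S hS => ?_⟩
  obtain ⟨S0, hS0, hUS0⟩ := exists_invSyl_ge hU
  obtain ⟨P0, hP0⟩ := exists_sylow_eq hA hn hcop hS0
  obtain ⟨P1, hP1⟩ := exists_sylow_eq hA hn hcop hS
  obtain ⟨c, hc, he⟩ := CfsgLib.Coprime.invariant_sylow_conj hn (coprime_card hA hcop le_rfl)
    (Or.inl (isSolvable_operators hA)) P0 P1 (by rw [hP0]; exact hS0.1.2.2) (by rw [hP1]; exact hS.1.2.2)
  have hu' : (c : X)⁻¹ * u * (c : X) ∈ U := by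
    have := (mem_normalizer_iff.1 (inv_mem (hCU ⟨c.2, hc⟩)) u).1 hu
    simpa using this
  obtain ⟨y, hy, hye⟩ : (c : X)⁻¹ * u * (c : X) ∈ (P0 : Subgroup G).map G.subtype := hP0 ▸ hUS0 hu'
  have h1 : MulAut.conj c • y ∈ MulAut.conj c • (P0 : Subgroup G) :=
    Subgroup.smul_mem_pointwise_smul _ _ _ hy
  have h2 : MulAut.conj c • y ∈ (P1 : Subgroup G) := by
    rw [← he]
    exact h1
  rw [← hP1]
  refine ⟨_, h2, ?_⟩
  rw [MulAut.smul_def, MulAut.conj_apply]
  show (c : X) * (y : X) * (c : X)⁻¹ = u
  rw [show (y : X) = (c : X)⁻¹ * u * (c : X) from hye]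
  group

theorem op_cb_le_invCap (hA : IsPGroup r ↥A) (hn : A ≤ normalizer (G : Set X))
    (hcop : (Nat.card ↥G).Coprime r) [IsMulCommutative A] {b : X} (hb : b ∈ A) :
    pCoreOf p (cb G b) ≤ invCap p G A :=
  le_invCap hA hn hcop ⟨(op_le _).trans (cb_le G b), isPGroup_op _,
    (le_normalizer_cb hn hb).trans (normalizer_le_normalizer_op _)⟩
    ((centralizer_subgroup_le_cb hb).trans (le_normalizer.trans (normalizer_le_normalizer_op _)))

variable (hA : IsPGroup r ↥A) (hn : A ≤ normalizer (G : Set X)) (hcop : (Nat.card ↥G).Coprime r)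

include hA hn hcop in
/-- In a normalizer of such a subgroup the residual is centralized. -/
theorem claimTwo
    (hN : A ≤ centralizer (dres p (G ⊓ normalizer (zOf (invCap p G A) : Set X)) : Set X))
    {U : Subgroup X} (hU : IsInvP p G A U)
    (hCU : G ⊓ centralizer (A : Set X) ≤ normalizer (U : Set X)) (hZU : zOf (invCap p G A) ≤ U) :
    A ≤ centralizer (dres p (G ⊓ normalizer (U : Set X)) : Set X) := by
  set P := invCap p G A with hP
  set Z := zOf P with hZ
  set N := G ⊓ normalizer (Z : Set X) with hNdef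
  set M := G ⊓ normalizer (U : Set X) with hM
  set D := dres p M with hD
  set T := pCoreOf p M with hT
  have hAM : A ≤ normalizer (M : Set X) :=
    CfsgLib.Coprime.le_normalizer_inf_inf hn (hU.2.2.trans le_normalizer)
  have hAN : A ≤ normalizer (N : Set X) :=
    CfsgLib.Coprime.le_normalizer_inf_inf hn
      ((((le_normalizer_invCap hn hn le_normalizer).trans (normalizer_le_normalizer_zOf P))).trans le_normalizer)
  have hUT : U ≤ T := le_op (le_inf hU.1 le_normalizer) inf_le_right hU.2.1
  have hCM : G ⊓ centralizer (A : Set X) ≤ M := le_inf inf_le_left hCU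
  have hTP : T ≤ P := le_invCap hA hn hcop
    ⟨(op_le M).trans inf_le_left, isPGroup_op M, hAM.trans (normalizer_le_normalizer_op M)⟩
    (hCM.trans (le_normalizer.trans (normalizer_le_normalizer_op M)))
  have hPN : P ≤ N := le_inf invCap_le ((le_centralizer_zOf P).trans (centralizer_le_normalizer _))
  have hTN : T ≤ N := hTP.trans hPN
  have hDT : D ≤ centralizer (T : Set X) := dres_le_centralizer_op M
  have hDN : D ≤ N := le_inf ((dres_le M).trans inf_le_left)
    ((hDT.trans (centralizer_le (hZU.trans hUT))).trans (centralizer_le_normalizer _))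
  set W := pCoreOf p N ⊓ centralizer (T : Set X) with hW
  have hWM : W ≤ M := le_inf (inf_le_left.trans ((op_le N).trans inf_le_left))
    ((inf_le_right.trans (centralizer_le hUT)).trans (centralizer_le_normalizer _))
  have hDW : D ≤ centralizer (W : Set X) := by
    refine le_centralizer_of_normalizes (dres_le M) (le_normalizer.trans (normalizer_le_normalizer_dres M))
      (ppGen_ppGen _) hDT hWM ((isPGroup_op N).to_le inf_le_left)
      (CfsgLib.Coprime.le_normalizer_inf_inf (hDN.trans (le_normalizer.trans (normalizer_le_normalizer_op N)))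
        (hDT.trans ?_))
    exact le_normalizer
  have hDR : D ≤ centralizer (pCoreOf p N : Set X) := by
    refine ppGen_le_iff.2 fun y hy hyc => ?_
    have hy' : y ∈ D := mem_ppGen hy hyc
    exact CfsgLib.Components.mem_centralizer_of_pTimesQ (isPGroup_op M) (isPGroup_op N)
      (hTN.trans (le_normalizer.trans (normalizer_le_normalizer_op N))) hyc (hDT hy')
      ((le_normalizer.trans (normalizer_le_normalizer_op N)) (hDN hy'))
      fun x hx => mem_centralizer_singleton_iff.2 (mem_centralizer_iff.1 (hDW hy') x hx)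
  exact le_centralizer_of_centralizes_op hA hcop inf_le_left hAN hN hDN
    (hAM.trans (normalizer_le_normalizer_dres M)) (ppGen_ppGen _) hDR

theorem orderOf_coprime_of_mem_ppGen {I : Subgroup X} [IsMulCommutative I] {x : X}
    (hx : x ∈ ppGen p I) : (orderOf x).Coprime p := by
  have h : x ∈ I ∧ (orderOf x).Coprime p := by
    induction hx using Subgroup.closure_induction with
    | mem y hy => exact hy
    | one => exact ⟨I.one_mem, by rw [orderOf_one]; exact Nat.coprime_one_left p⟩
    | mul y z _ _ hy hz =>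
      refine ⟨I.mul_mem hy.1 hz.1, ?_⟩
      have hc : Commute y z := congrArg Subtype.val
        ((‹IsMulCommutative I›).is_comm.comm (⟨y, hy.1⟩ : I) ⟨z, hz.1⟩)
      exact (hy.2.mul_left hz.2).coprime_dvd_left hc.orderOf_mul_dvd_mul_orderOf
    | inv y _ hy => exact ⟨I.inv_mem hy.1, by rw [orderOf_inv]; exact hy.2⟩
  exact h.2

theorem card_coprime_ppGen (I : Subgroup X) [IsMulCommutative I] :
    (Nat.card ↥(ppGen p I)).Coprime p := by
  rw [Nat.coprime_comm, (Fact.out : p.Prime).coprime_iff_not_dvd]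
  intro hdvd
  obtain ⟨⟨x, hx⟩, ho⟩ := exists_prime_orderOf_dvd_card' p hdvd
  have := orderOf_coprime_of_mem_ppGen hx
  rw [orderOf_mk] at ho
  rw [ho, Nat.coprime_self] at this
  exact (Fact.out : p.Prime).ne_one this

include hA hn hcop in
/-- The normalizer of such a subgroup normalizes the K-infinity subgroup of its part of the intersection. -/
theorem claimThree (hquad : QuadInPCore.{u} p r) {U : Subgroup X} (hU : IsInvP p G A U)
    (hCU : G ⊓ centralizer (A : Set X) ≤ normalizer (U : Set X)) (hUne : U ≠ ⊥)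
    (hM : A ≤ centralizer (dres p (G ⊓ normalizer (U : Set X)) : Set X)) :
    G ⊓ normalizer (U : Set X) ≤
      normalizer (kOf (invCap p G A ⊓ (G ⊓ normalizer (U : Set X))) : Set X) := by
  set P := invCap p G A with hP
  set M := G ⊓ normalizer (U : Set X) with hMdef
  set Q := P ⊓ M with hQ
  set D := dres p M with hD
  set C := G ⊓ centralizer (A : Set X) with hC
  set T := pCoreOf p M with hT
  have hMG : M ≤ G := inf_le_left
  have hAM : A ≤ normalizer (M : Set X) :=
    CfsgLib.Coprime.le_normalizer_inf_inf hn (hU.2.2.trans le_normalizer)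
  have hUT : U ≤ T := le_op (le_inf hU.1 le_normalizer) inf_le_right hU.2.1
  have hCM : C ≤ M := le_inf inf_le_left hCU
  have hCP : C ≤ normalizer (P : Set X) :=
    le_normalizer_invCap hn (inf_le_left.trans le_normalizer)
      (inf_le_right.trans (centralizer_le_normalizer _))
  have hCQ : C ≤ normalizer (Q : Set X) :=
    CfsgLib.Coprime.le_normalizer_inf_inf hCP (hCM.trans le_normalizer)
  have hTP : T ≤ P := le_invCap hA hn hcop
    ⟨(op_le M).trans inf_le_left, isPGroup_op M, hAM.trans (normalizer_le_normalizer_op M)⟩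
    (hCM.trans (le_normalizer.trans (normalizer_le_normalizer_op M)))
  have hDC : D ≤ C := le_inf ((dres_le M).trans hMG) (le_centralizer_iff.1 hM)
  have hMD : M ≤ normalizer (D : Set X) := le_normalizer.trans (normalizer_le_normalizer_dres M)
  have hQp : IsPGroup p ↥Q := isPGroup_invCap.to_le inf_le_left
  have hDQ : D ≤ centralizer (Q : Set X) := le_centralizer_of_normalizes (dres_le M) hMD (ppGen_ppGen _)
    (dres_le_centralizer_op M) inf_le_right hQp (hDC.trans hCQ)
  set H := M ⊓ centralizer (D : Set X) with hH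
  have hQH : Q ≤ H := le_inf inf_le_right (le_centralizer_iff.1 hDQ)
  have hMH : M ≤ normalizer (H : Set X) :=
    CfsgLib.Coprime.le_normalizer_inf_inf le_normalizer (CfsgLib.Coprime.le_normalizer_centralizer hMD)
  have hAH : A ≤ normalizer (H : Set X) := CfsgLib.Coprime.le_normalizer_inf_inf hAM
    (CfsgLib.Coprime.le_normalizer_centralizer (hAM.trans (normalizer_le_normalizer_dres M)))
  have hTH : T ≤ H := le_inf (op_le M) (le_centralizer_iff.1 (dres_le_centralizer_op M))
  have hTeq : pCoreOf p H = T := le_antisymm (op_mono inf_le_left hMH)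
    (le_op hTH ((inf_le_left : H ≤ M).trans (le_normalizer.trans (normalizer_le_normalizer_op M)))
      (isPGroup_op M))
  set I := H ⊓ D with hI
  haveI : IsMulCommutative I := le_centralizer_iff_isMulCommutative.1
    ((inf_le_left.trans inf_le_right : I ≤ centralizer (D : Set X)).trans (centralizer_le inf_le_right))
  set Zd := ppGen p I with hZd
  have hcent : H ⊓ centralizer (pCoreOf p H : Set X) ≤ pCoreOf p H ⊔ Zd := by
    rw [hTeq]
    rintro x ⟨hxH, hxT⟩
    have hxfs : x ∈ fs M := centralizer_fs_le M ⟨hxH.1, by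
      have h1 : fs M ≤ centralizer ({x} : Set X) := (fs_le_sup (p := p) M).trans (sup_le
        (fun t ht => mem_centralizer_singleton_iff.2 (mem_centralizer_iff.1 hxT t ht))
        (fun d hd => mem_centralizer_singleton_iff.2 (mem_centralizer_iff.1 hxH.2 d hd)))
      exact mem_centralizer_iff.2 fun y hy => mem_centralizer_singleton_iff.1 (h1 hy)⟩
    have hx' := fs_le_sup (p := p) M hxfs
    rw [← SetLike.mem_coe, coe_mul_of_right_le_normalizer_left _ _
      ((dres_le M).trans (le_normalizer.trans (normalizer_le_normalizer_op M)))] at hx'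
    obtain ⟨t, ht, d, hd, rfl⟩ := hx'
    refine mul_mem (mem_sup_left ht) ?_
    have hdI : d ∈ I := ⟨by simpa using H.mul_mem (H.inv_mem (hTH ht)) hxH, hd⟩
    obtain ⟨a, ha, e, he, hae, ⟨k, hk⟩, hep⟩ := CfsgLib.Transfer.exists_pPart_mul (p := p) d
    rw [← hae]
    refine mul_mem (mem_sup_left ?_) (mem_sup_right (mem_ppGen (zpowers_le.2 hdI he) hep))
    have haI : zpowers a ≤ I := zpowers_le.2 (zpowers_le.2 hdI ha)
    have hap : IsPGroup p ↥(zpowers a) := by
      obtain ⟨i, -, hi⟩ := (Nat.dvd_prime_pow (Fact.out : p.Prime)).1 hk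
      exact IsPGroup.of_card (n := i) (by rw [Nat.card_zpowers, hi])
    have hMI : M ≤ normalizer (I : Set X) := CfsgLib.Coprime.le_normalizer_inf_inf hMH hMD
    exact (le_op haI (((le_centralizer_iff_isMulCommutative.2 inferInstance : I ≤ centralizer (I : Set X)).trans
      (centralizer_le haI)).trans (centralizer_le_normalizer _)) hap).trans
      (op_mono (inf_le_left.trans inf_le_left) hMI) (mem_zpowers a)
  have hK : H ≤ normalizer (kOf Q : Set X) := by
    refine le_normalizer_kInf hquad hA (hcop.coprime_dvd_left (card_dvd_of_le (inf_le_left.trans hMG)))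
      hAH ?_ ((ppGen_le I).trans inf_le_left) (card_coprime_ppGen I) ?_ ?_ hcent
      (hTeq ▸ le_inf hTP (op_le M)) hQH hQp ?_
    · rw [hTeq]
      exact fun h => hUne (le_bot_iff.1 (hUT.trans h.le))
    · exact le_centralizer_iff.1 (((ppGen_le I).trans inf_le_right).trans
        (le_centralizer_iff.1 inf_le_right))
    · exact hM.trans (centralizer_le ((ppGen_le I).trans inf_le_right))
    · intro S hS
      obtain ⟨S', hS', hSS'⟩ := exists_invSyl_ge
        (⟨hS.1.trans (inf_le_left.trans hMG), hS.2.1, hS.2.2⟩ : IsInvP p G A S)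
      exact hS'.1.2.1.to_le (sup_le hSS' (inf_le_left.trans (invCap_le_invSyl hS')))
  intro m hm
  obtain ⟨c, ⟨hcM, hcA⟩, hmc⟩ := CfsgLib.Coprime.exists_commutator_mul_centralizer hAM
    (coprime_card hA hcop hMG) (Or.inl (isSolvable_operators hA)) hm
  have h1 : m * c⁻¹ ∈ H := ⟨CfsgLib.Coprime.commutator_le_of_le_normalizer hAM hmc,
    commutator_le_centralizer_dres hM hmc⟩
  have h2 := mul_mem (hK h1) (normalizer_le_normalizer_kOf Q (hCQ ⟨hMG hcM, hcA⟩))
  rwa [inv_mul_cancel_right] at h2

include hA hn hcop in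
/-- An invariant subgroup containing the centre of the intersection, normalized by `C_G(b)`. -/
theorem claimOne [IsMulCommutative A] {b : X} (hb : b ∈ A)
    (hloc : A ≤ centralizer (dres p (cb G b) : Set X)) :
    ∃ U, IsInvP p G A U ∧ G ⊓ centralizer (A : Set X) ≤ normalizer (U : Set X) ∧
      cb G b ≤ normalizer (U : Set X) ∧ zOf (invCap p G A) ≤ U := by
  set P := invCap p G A with hP
  set T := pCoreOf p (cb G b) with hT
  set H := G ⊓ centralizer (T : Set X) with hH
  have hHG : H ≤ G := inf_le_left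
  have hAT : A ≤ normalizer (T : Set X) := (le_normalizer_cb hn hb).trans (normalizer_le_normalizer_op _)
  have hAH : A ≤ normalizer (H : Set X) :=
    CfsgLib.Coprime.le_normalizer_inf_inf hn (CfsgLib.Coprime.le_normalizer_centralizer hAT)
  have hbH : cb G b ≤ normalizer (H : Set X) :=
    CfsgLib.Coprime.le_normalizer_inf_inf ((cb_le G b).trans le_normalizer)
      (CfsgLib.Coprime.le_normalizer_centralizer (le_normalizer.trans (normalizer_le_normalizer_op _)))
  have hC : G ⊓ centralizer (A : Set X) ≤ cb G b := centralizer_subgroup_le_cb hb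
  set U := invCap p H A with hU
  have hcopH : (Nat.card ↥H).Coprime r := hcop.coprime_dvd_left (card_dvd_of_le hHG)
  have hAU : A ≤ normalizer (U : Set X) := le_normalizer_invCap hAH hAH le_normalizer
  have hCU : G ⊓ centralizer (A : Set X) ≤ normalizer (U : Set X) :=
    le_normalizer_invCap hAH (hC.trans hbH) (inf_le_right.trans (centralizer_le_normalizer _))
  have hUi : IsInvP p G A U := ⟨invCap_le.trans hHG, isPGroup_invCap, hAU⟩
  have hTP : T ≤ P := op_cb_le_invCap hA hn hcop hb
  refine ⟨U, hUi, hCU, ?_, fun z hz => mem_invCap_of_le hA hAH hHG hcop (zOf_le P hz)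
    ⟨invCap_le (zOf_le P hz), mem_centralizer_iff.2 fun t ht =>
      (mem_centralizer_iff.1 (le_centralizer_zOf P (hTP ht)) z hz).symm⟩⟩
  have hconj : ∀ y ∈ cb G b, ∀ S, IsInvSyl p H A S → IsInvSyl p H A (conjBy S y) := by
    intro y hy S hS
    have hyH := hbH hy
    obtain ⟨P1, hP1⟩ := exists_sylow_eq hA hAH hcopH hS
    set S' := conjBy S y with hS'
    have hS'H : S' ≤ H := (conjBy_mono y hS.1.1).trans (le_of_eq (conjBy_eq_self_iff.2 hyH))
    obtain ⟨P2, hP2⟩ := ((isPGroup_conjBy hS.1.2.1 y).comap_of_injective H.subtype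
      H.subtype_injective).exists_le_sylow
    have hP2e : (P2 : Subgroup H).map H.subtype = S' := by
      have h1 : S' ≤ (P2 : Subgroup H).map H.subtype := by
        intro x hx
        exact ⟨⟨x, hS'H hx⟩, hP2 hx, rfl⟩
      set V := conjBy ((P2 : Subgroup H).map H.subtype) y⁻¹ with hV
      have h2 : S ≤ V := by
        rw [← conjBy_inv_conjBy S y]
        exact conjBy_mono _ h1
      have h3 : V = S := hS.eq_of_le hA hAH hcopH
        ((conjBy_mono _ (map_subtype_le _)).trans (le_of_eq (conjBy_eq_self_iff.2 (inv_mem hyH))))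
        (isPGroup_conjBy (P2.2.map _) _) h2
      rw [hS', ← h3, hV, conjBy_conjBy_inv]
    have hby : Commute y b := mem_centralizer_singleton_iff.1 hy.2
    have hbS : zpowers b ≤ normalizer (S : Set X) := (zpowers_le.2 (hS.1.2.2 hb))
    have hbS' : zpowers b ≤ normalizer (S' : Set X) := by
      refine zpowers_le.2 (conjBy_eq_self_iff.1 ?_)
      rw [hS', ← conjBy_mul, ← hby.eq, conjBy_mul, conjBy_eq_self_iff.2 (hS.1.2.2 hb)]
    have hbA : zpowers b ≤ A := zpowers_le.2 hb
    obtain ⟨c, hc, he⟩ := CfsgLib.Coprime.invariant_sylow_conj ((hbA.trans hAH))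
      (coprime_card (hA.to_le hbA) hcopH le_rfl) (Or.inl (isSolvable_operators (hA.to_le hbA))) P1 P2
      (by rw [hP1]; exact hbS) (by rw [hP2e]; exact hbS')
    have hSc : S' = conjBy S (c : X) := by
      rw [← hP2e, ← he, ← hP1]
      ext x
      constructor
      · rintro ⟨_, ⟨w, hw, rfl⟩, rfl⟩
        exact ⟨w, mem_map_of_mem H.subtype hw, rfl⟩
      · rintro ⟨_, ⟨w, hw, rfl⟩, rfl⟩
        exact ⟨MulAut.conj c w, ⟨w, hw, rfl⟩, rfl⟩
    set Y := cb G b ⊓ H with hY
    have hcY : (c : X) ∈ Y := ⟨⟨hHG c.2, centralizer_le (Set.singleton_subset_iff.2 (mem_zpowers b)) hc⟩, c.2⟩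
    have hAY : A ≤ normalizer (Y : Set X) := CfsgLib.Coprime.le_normalizer_inf_inf (le_normalizer_cb hn hb) hAH
    obtain ⟨c', ⟨hc'Y, hc'A⟩, hcc⟩ := CfsgLib.Coprime.exists_commutator_mul_centralizer hAY
      (coprime_card hA hcop (inf_le_left.trans (cb_le G b))) (Or.inl (isSolvable_operators hA)) hcY
    have hT' : (c : X) * c'⁻¹ ∈ T := commutator_le_op hA hcop (cb_le G b) (le_normalizer_cb hn hb) hloc
      inf_le_left hAY (inf_le_right.trans inf_le_right) hcc
    have hN' : c' ∈ normalizer (H : Set X) := le_normalizer hc'Y.2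
    have hR' : c' ∈ normalizer (A : Set X) := centralizer_le_normalizer _ hc'A
    have h4 := invSyl_conjBy hN' hR' hS
    have h5 : conjBy S (c : X) = conjBy S c' := by
      conv_lhs => rw [show (c : X) = (c : X) * c'⁻¹ * c' by group, conjBy_mul]
      refine conjBy_of_commute fun a ha => ?_
      exact mem_centralizer_iff.1 (h4.1.1 ha).2 _ hT'
    rw [hSc, h5]
    exact h4
  refine le_normalizer_of_key fun y hy g hg => ?_
  obtain ⟨hgH, hgS⟩ := mem_invCap.1 hg
  refine mem_invCap.2 ⟨(mem_normalizer_iff.1 (hbH hy) g).1 hgH, fun S hS => ?_⟩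
  have h6 := hgS _ (hconj y⁻¹ (inv_mem hy) S hS)
  rw [mem_conjBy, inv_inv] at h6
  exact h6

end CfsgLib.Flavell.Balance
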