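import Mathlib
import Cfsg.Agent.Lib.Flavell.Balance.Invariant
import Cfsg.Agent.Lib.Components.PComponents

/-!
The local hypothesis under restriction of the ambient group and modulo a central `p`-subgroup.
-/

set_option autoImplicit false
set_option linter.style.haveILetI false
set_option linter.unusedSectionVars false

namespace CfsgLib.Flavell.Balance

open Cfsg Subgroup CfsgLib.Components CfsgLib.Base

variable {X : Type*} [Group X] [Finite X] {p r : ℕ} [Fact p.Prime] [Fact r.Prime]

theorem map_fstar_le {G G' : Type*} [Group G] [Group G'] [Finite G] (f : G →* G')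
    (hf : Function.Surjective f) :
    (generalizedFittingSubgroup G).map f ≤ generalizedFittingSubgroup G' := by
  haveI : Finite G' := Finite.of_surjective f hf
  rw [generalizedFittingSubgroup, Subgroup.map_sup]
  refine sup_le ?_ ((map_fittingSubgroup_le f hf).trans fitting_le_fstar)
  rw [map_le_iff_le_comap]
  refine layer_le_iff.2 fun L hL => map_le_iff_le_comap.1 ?_
  by_cases h : L.map f = ⊥
  · simp [h]
  · haveI := (nontrivial_iff_ne_bot _).2 h
    exact (component_le_layer ⟨hL.1.map hf,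
      isQuasisimple_of_surjective hL.2 (f.subgroupMap L) (f.subgroupMap_surjective L)⟩).trans layer_le_fstar

theorem map_fs_le {Y : Type*} [Group Y] (f : X →* Y) (H : Subgroup X) : (fs H).map f ≤ fs (H.map f) := by
  have h := Subgroup.map_mono (f := (H.map f).subtype)
    (map_fstar_le (f.subgroupMap H) (f.subgroupMap_surjective H))
  rw [Subgroup.map_map] at h
  rw [fs, Subgroup.map_map]
  exact h

theorem map_dres_le {Y : Type*} [Group Y] (f : X →* Y) (H : Subgroup X) :
    (dres p H).map f ≤ dres p (H.map f) := by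
  rw [map_le_iff_le_comap]
  exact ppGen_le_iff.2 fun x hx hc =>
    mem_ppGen (map_fs_le f H (mem_map_of_mem f hx)) (hc.coprime_dvd_left (orderOf_map_dvd f x))

variable {G A : Subgroup X}

theorem map_cb_subgroupOf {M : Subgroup X} (hG : G ≤ M) (b : M) :
    (cb (G.subgroupOf M) b).map M.subtype = cb G (b : X) := by
  ext x
  constructor
  · rintro ⟨y, ⟨hy, hyb⟩, rfl⟩
    exact ⟨hy, mem_centralizer_singleton_iff.2 (congrArg Subtype.val (mem_centralizer_singleton_iff.1 hyb))⟩
  · rintro ⟨hx, hxb⟩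
    exact ⟨⟨x, hG hx⟩, ⟨hx, mem_centralizer_singleton_iff.2
      (Subtype.ext (mem_centralizer_singleton_iff.1 hxb))⟩, rfl⟩

theorem hyp_subgroupOf {M : Subgroup X} (hG : G ≤ M) (hloc : Hyp p G A) :
    Hyp p (G.subgroupOf M) (A.subgroupOf M) := by
  intro b hb hb1 a ha
  refine mem_centralizer_iff.2 fun d hd => Subtype.ext ?_
  have h := hloc (b : X) hb (fun e => hb1 (Subtype.ext e)) ha
  refine mem_centralizer_iff.1 h (d : X) ?_
  rw [← map_cb_subgroupOf hG b, dres_map M.subtype_injective]
  exact mem_map_of_mem M.subtype hd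

theorem le_centralizer_of_subgroupOf {M : Subgroup X} (hG : G ≤ M) (hA : A ≤ M)
    (h : A.subgroupOf M ≤ centralizer (dres p (G.subgroupOf M) : Set M)) :
    A ≤ centralizer (dres p G : Set X) := by
  intro a ha
  refine mem_centralizer_iff.2 fun d hd => ?_
  rw [← map_subgroupOf_eq_of_le hG, dres_map M.subtype_injective] at hd
  obtain ⟨d', hd', rfl⟩ := hd
  exact congrArg Subtype.val (mem_centralizer_iff.1
    (h (show (⟨a, hA ha⟩ : M) ∈ A.subgroupOf M from ha)) d' hd')

variable {Z : Subgroup X} [Z.Normal]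

theorem cb_map_mk (hA : IsPGroup r ↥A) (hcop : (Nat.card ↥G).Coprime r) (hZG : Z ≤ G) {b : X}
    (hb : b ∈ A) :
    cb (G.map (QuotientGroup.mk' Z)) (QuotientGroup.mk' Z b) = (cb G b).map (QuotientGroup.mk' Z) := by
  set q := QuotientGroup.mk' Z with hq
  refine le_antisymm ?_ ?_
  · rintro _ ⟨⟨g, hg, rfl⟩, hgb⟩
    have hbA : zpowers b ≤ A := zpowers_le.2 hb
    obtain ⟨c, hc, hgc⟩ := CfsgLib.Coprime.exists_centralizing_in_coset (A := zpowers b) (N := Z)
      (by rw [normalizer_eq_top]; exact le_top)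
      (coprime_card (hA.to_le hbA) hcop hZG) (Or.inl (isSolvable_operators (hA.to_le hbA))) (k := g) (by
        intro a ha
        obtain ⟨n, rfl⟩ := mem_zpowers_iff.1 ha
        have h1 : Commute (q g) (q b ^ n) :=
          Commute.zpow_right (mem_centralizer_singleton_iff.1 hgb) n
        rw [← QuotientGroup.eq_one_iff]
        show q (g⁻¹ * (b ^ n * g * (b ^ n)⁻¹)) = 1
        rw [map_mul, map_mul, map_mul, map_inv, map_inv, map_zpow, ← h1.eq]
        group)
    refine ⟨c, ⟨?_, centralizer_le (Set.singleton_subset_iff.2 (mem_zpowers b)) hc⟩, ?_⟩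
    · have := G.mul_mem hg (hZG hgc)
      rwa [mul_inv_cancel_left] at this
    · exact (QuotientGroup.eq.2 hgc).symm
  · rintro _ ⟨c, ⟨hc, hcb⟩, rfl⟩
    refine ⟨mem_map_of_mem q hc, mem_centralizer_singleton_iff.2 ?_⟩
    rw [← map_mul, ← map_mul, mem_centralizer_singleton_iff.1 hcb]

variable [IsMulCommutative A]

theorem hyp_quotient (hA : IsPGroup r ↥A) (hn : A ≤ normalizer (G : Set X))
    (hcop : (Nat.card ↥G).Coprime r) (hloc : Hyp p G A) (hZG : Z ≤ G) (hZp : IsPGroup p ↥Z)
    (hZc : G ≤ centralizer (Z : Set X)) :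
    Hyp p (G.map (QuotientGroup.mk' Z)) (A.map (QuotientGroup.mk' Z)) := by
  set q := QuotientGroup.mk' Z with hq
  rintro _ ⟨b, hb, rfl⟩ hb1
  have hb1' : b ≠ 1 := fun h => hb1 (by rw [h, map_one])
  set Cq := cb (G.map q) (q b) with hCq
  set D := ppGen p ((dres p Cq).comap q ⊓ cb G b) with hD
  have hC : Cq = (cb G b).map q := cb_map_mk hA hcop hZG hb
  have hAD : A ≤ normalizer (D : Set X) := by
    refine le_trans ?_ (normalizer_le_normalizer_ppGen _)
    refine CfsgLib.Coprime.le_normalizer_inf_inf ?_ (le_normalizer_cb hn hb)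
    refine le_trans ?_ (le_normalizer_comap q)
    rw [← map_le_iff_le_comap, hC]
    exact (Subgroup.map_mono (le_normalizer_cb hn hb)).trans
      ((le_normalizer_map q).trans (normalizer_le_normalizer_dres _))
  have hDc : D ≤ centralizer (pCoreOf p (cb G b) : Set X) := by
    refine ppGen_le_iff.2 fun y hy hyc => mem_centralizer_iff.2 fun w hw => ?_
    obtain ⟨hy1, hy2⟩ := hy
    have hw' : q w ∈ pCoreOf p Cq := by
      refine le_op (hC ▸ Subgroup.map_mono (op_le _)) ?_ ((isPGroup_op (p := p) (cb G b)).map q)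
        (mem_map_of_mem q hw)
      rw [hC]
      exact (Subgroup.map_mono (le_normalizer.trans (normalizer_le_normalizer_op _))).trans
        (le_normalizer_map q)
    have h1 : y * w * y⁻¹ * w⁻¹ ∈ Z := by
      rw [← QuotientGroup.eq_one_iff]
      show q (y * w * y⁻¹ * w⁻¹) = 1
      have h2 := mem_centralizer_iff.1 (dres_le_centralizer_op Cq hy1) _ hw'
      rw [map_mul, map_mul, map_mul, map_inv, map_inv, ← h2]
      group
    exact (commute_of_displacement hZp hyc h1
      (mem_centralizer_iff.1 (hZc hy2.1) _ h1).symm).symm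
  have hAc : A ≤ centralizer (D : Set X) :=
    le_centralizer_of_centralizes_op hA hcop (cb_le G b) (le_normalizer_cb hn hb) (hloc b hb hb1')
      ((ppGen_le _).trans inf_le_right) hAD (ppGen_ppGen _) hDc
  rw [le_centralizer_iff]
  refine ppGen_le_iff.2 fun x hx hxc => mem_centralizer_iff.2 ?_
  rintro _ ⟨a, ha, rfl⟩
  have hxd : x ∈ dres p Cq := mem_ppGen hx hxc
  obtain ⟨y0, hy0, rfl⟩ : x ∈ (cb G b).map q := hC ▸ fs_le Cq hx
  obtain ⟨s, hs, t, ht, hst, ⟨k, hk⟩, htp⟩ := CfsgLib.Transfer.exists_pPart_mul (p := p) y0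
  have hqs : q s = 1 := by
    have hcomm : Commute (q t) (q s) :=
      (commute_of_mem_zpowers ht hs).map q
    have h1 : q s = q y0 * (q t)⁻¹ := by rw [← hst, map_mul, mul_inv_cancel_right]
    have h2 : Commute (q y0) (q t)⁻¹ := by
      rw [← hst, map_mul]
      exact ((hcomm.symm.mul_left (Commute.refl (q t)))).inv_right
    have h3 : orderOf (q s) ∣ orderOf (q y0) * orderOf (q t) := by
      refine orderOf_dvd_of_pow_eq_one ?_
      rw [h1, h2.mul_pow, pow_mul, pow_orderOf_eq_one, one_pow, one_mul, inv_pow, mul_comm, pow_mul,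
        pow_orderOf_eq_one, one_pow, inv_one]
    exact orderOf_eq_one_iff.1 (Nat.eq_one_of_dvd_coprimes
      ((hxc.mul_left (htp.coprime_dvd_left (orderOf_map_dvd q t))).pow_right k) h3
      ((orderOf_map_dvd q s).trans hk))
  have hqt : q t = q y0 := by rw [← hst, map_mul, hqs, one_mul]
  have htD : t ∈ D := by
    refine mem_ppGen ⟨?_, zpowers_le.2 hy0 ht⟩ htp
    show q t ∈ dres p Cq
    rw [hqt]; exact hxd
  rw [← hqt, ← map_mul, ← map_mul, mem_centralizer_iff.1 (hAc ha) t htD]
where
  commute_of_mem_zpowers {Y : Type _} [Group Y] {y s t : Y} (ht : t ∈ zpowers y) (hs : s ∈ zpowers y) :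
      Commute t s := by
    obtain ⟨i, rfl⟩ := mem_zpowers_iff.1 ht
    obtain ⟨j, rfl⟩ := mem_zpowers_iff.1 hs
    exact Commute.zpow_zpow (Commute.refl y) i j

end CfsgLib.Flavell.Balance
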