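import Mathlib
import Cfsg.Agent.Lib.Flavell.Balance.Claims
import Cfsg.Agent.Lib.Flavell.Balance.Quotient
import Cfsg.Agent.Lib.Flavell.Core

/-!
A noncyclic abelian coprime group centralizing every local `O^p(F*)` centralizes `O^p(F*)`, `p > 3`.
-/

set_option autoImplicit false
set_option linter.style.haveILetI false
set_option linter.unusedSectionVars false

namespace CfsgLib.Flavell.Balance

open Cfsg Subgroup CfsgLib.Flavell CfsgLib.ThreeTransp CfsgLib.Base

universe u

variable {p r : ℕ} [Fact p.Prime] [Fact r.Prime]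

/-- The case without normal `p`-subgroups. -/
theorem core {X : Type u} [Group X] [Finite X] {G A : Subgroup X} (hp : 3 < p) (hA : IsPGroup r ↥A)
    (hn : A ≤ normalizer (G : Set X)) (hcop : (Nat.card ↥G).Coprime r) [IsMulCommutative A]
    (hnc : ¬ IsCyclic ↥A) (hloc : Hyp p G A) (hO : pCoreOf p G = ⊥)
    (ih : ∀ H : Subgroup X, H ≤ G → H ≠ G → A ≤ normalizer (H : Set X) → Hyp p H A →
      A ≤ centralizer (dres p H : Set X)) :
    G ≤ centralizer (A : Set X) := by
  classical
  set P := invCap p G A with hP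
  set C := G ⊓ centralizer (A : Set X) with hC
  have gen : ∀ R : Subgroup X, (∀ b ∈ A, b ≠ 1 → cb G b ≤ R) → G ≤ R := fun R h =>
    CfsgLib.Coprime.le_of_centralizer_le_of_not_isCyclic hnc hn (coprime_card hA hcop le_rfl)
      fun a ha ha1 => h a ha ha1
  by_cases hP0 : P = ⊥
  · refine gen _ fun b hb hb1 => ?_
    have hT : pCoreOf p (cb G b) = ⊥ := le_bot_iff.1 ((op_cb_le_invCap hA hn hcop hb).trans hP0.le)
    have h := commutator_le_op hA hcop (cb_le G b) (le_normalizer_cb hn hb) (hloc b hb hb1) le_rfl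
      (le_normalizer_cb hn hb) (by
        intro x _
        rw [hT]
        exact mem_centralizer_iff.2 fun y hy => by rw [SetLike.mem_coe, mem_bot] at hy; simp [hy])
    rw [hT, le_bot_iff, commutator_eq_bot_iff_le_centralizer] at h
    exact h
  exfalso
  set Z := zOf P with hZ
  have hPp : IsPGroup p ↥P := isPGroup_invCap
  have hPG : P ≤ G := invCap_le
  have hZne : Z ≠ ⊥ := by
    intro h
    haveI : Nontrivial ↥P := (nontrivial_iff_ne_bot P).2 hP0
    haveI := hPp.center_nontrivial
    exact (nontrivial_iff_ne_bot _).1 ‹Nontrivial (center ↥P)›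
      ((map_eq_bot_iff_of_injective _ P.subtype_injective).1 h)
  have hnot : ∀ K : Subgroup X, K ≤ G → IsPGroup p ↥K → K ≠ ⊥ → ¬ G ≤ normalizer (K : Set X) :=
    fun K hKG hKp hK h => hK (le_bot_iff.1 ((le_op hKG h hKp).trans hO.le))
  have hAP : A ≤ normalizer (P : Set X) := le_normalizer_invCap hn hn le_normalizer
  have hCP : C ≤ normalizer (P : Set X) :=
    le_normalizer_invCap hn (inf_le_left.trans le_normalizer) (inf_le_right.trans (centralizer_le_normalizer _))
  have hPN : P ≤ G ⊓ normalizer (Z : Set X) :=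
    le_inf hPG ((le_centralizer_zOf P).trans (centralizer_le_normalizer _))
  have hN : A ≤ centralizer (dres p (G ⊓ normalizer (Z : Set X)) : Set X) := by
    have hAN : A ≤ normalizer ((G ⊓ normalizer (Z : Set X) : Subgroup X) : Set X) :=
      CfsgLib.Coprime.le_normalizer_inf_inf hn
        ((hAP.trans (normalizer_le_normalizer_zOf P)).trans le_normalizer)
    refine ih _ inf_le_left (fun h => hnot Z ((zOf_le P).trans hPG) (hPp.to_le (zOf_le P)) hZne
      (h ▸ inf_le_right)) hAN (hyp_of_le hA hn hcop hloc inf_le_left hAN fun b hb _ => ?_)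
    exact (op_cb_le_invCap hA hn hcop hb).trans hPN
  have main : ∀ b ∈ A, b ≠ 1 → cb G b ≤ normalizer (kOf P : Set X) := by
    intro b hb hb1
    set s : Set (Subgroup X) := {U | IsInvP p G A U ∧ C ≤ normalizer (U : Set X) ∧
      cb G b ≤ normalizer (U : Set X) ∧ Z ≤ U} with hs
    obtain ⟨U, hU, hmax⟩ := Set.exists_max_image s
      (fun U => Nat.card ↥(P ⊓ (G ⊓ normalizer (U : Set X)) : Subgroup X)) (Set.toFinite s)
      (claimOne hA hn hcop hb (hloc b hb hb1))
    obtain ⟨hUi, hCU, hbU, hZU⟩ := hU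
    set M := G ⊓ normalizer (U : Set X) with hM
    set Q := P ⊓ M with hQ
    have hMK : M ≤ normalizer (kOf Q : Set X) :=
      claimThree hA hn hcop (quadInPCore hp r) hUi hCU (fun h => hZne (le_bot_iff.1 (hZU.trans h.le)))
        (claimTwo hA hn hcop hN hUi hCU hZU)
    have hbM : cb G b ≤ M := le_inf (cb_le G b) hbU
    have hCM : C ≤ M := le_inf inf_le_left hCU
    have hAQ : A ≤ normalizer (Q : Set X) := CfsgLib.Coprime.le_normalizer_inf_inf hAP
      (CfsgLib.Coprime.le_normalizer_inf_inf hn (hUi.2.2.trans le_normalizer))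
    have hQp : IsPGroup p ↥Q := hPp.to_le inf_le_left
    have hZQ : Z ≤ Q := le_inf (zOf_le P)
      (le_inf ((zOf_le P).trans hPG) (hZU.trans le_normalizer))
    have hZK : Z ≤ kOf Q := by
      intro z hz
      refine ⟨⟨z, hZQ hz⟩, (CfsgLib.KInf.center_le_kInf hQp).1 (mem_center_iff.2 fun g => Subtype.ext ?_), rfl⟩
      exact (mem_centralizer_iff.1 (le_centralizer_zOf P g.2.1) z hz).symm
    have hKs : kOf Q ∈ s := ⟨⟨(map_subtype_le _).trans (inf_le_left.trans hPG),
      hQp.to_le (map_subtype_le _), hAQ.trans (normalizer_le_normalizer_kOf Q)⟩, hCM.trans hMK, hbM.trans hMK, hZK⟩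
    have hQP : Q = P := by
      by_contra hne
      haveI : Group.IsNilpotent ↥P := hPp.isNilpotent
      have hQle : Q ≤ P := inf_le_left
      have hlt : Q.subgroupOf P < ⊤ := lt_top_iff_ne_top.2 fun h =>
        hne (le_antisymm hQle (subgroupOf_eq_top.1 h))
      obtain ⟨x, hx, hxQ⟩ := SetLike.exists_of_lt (Group.normalizerCondition_of_isNilpotent _ hlt)
      rw [← subgroupOf_normalizer_eq hQle, mem_subgroupOf] at hx
      have hle : Q ≤ P ⊓ (G ⊓ normalizer (kOf Q : Set X)) := le_inf hQle (le_inf (hQle.trans hPG)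
        (le_normalizer.trans (normalizer_le_normalizer_kOf Q)))
      have he := eq_of_le_of_card_ge hle (hmax _ hKs)
      refine hxQ (mem_subgroupOf.2 ?_)
      rw [he]
      exact ⟨x.2, hPG x.2, normalizer_le_normalizer_kOf Q hx⟩
    rw [← hQP]
    exact hbM.trans hMK
  have hKP : kOf P ≠ ⊥ := by
    intro h
    refine hZne (le_bot_iff.1 ?_)
    rw [← h]
    rintro _ ⟨z, hz, rfl⟩
    exact ⟨z, (CfsgLib.KInf.center_le_kInf hPp).1 hz, rfl⟩
  exact hnot _ ((map_subtype_le _).trans hPG) (hPp.to_le (map_subtype_le _)) hKP (gen _ main)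

/-- The general case, by induction on the order. -/
theorem balance_aux (hp : 3 < p) : ∀ (n : ℕ) {X : Type u} [Group X] [Finite X] (G A : Subgroup X),
    Nat.card ↥G = n → IsPGroup r ↥A → A ≤ normalizer (G : Set X) → (Nat.card ↥G).Coprime r →
    IsMulCommutative ↥A → ¬ IsCyclic ↥A → Hyp p G A → A ≤ centralizer (dres p G : Set X) := by
  intro n
  induction n using Nat.strong_induction_on with
  | _ n ih =>
  intro X _ _ G A hcard hA hn hcop hab hnc hloc
  haveI := hab
  have ih' : ∀ H : Subgroup X, H ≤ G → H ≠ G → A ≤ normalizer (H : Set X) → Hyp p H A →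
      A ≤ centralizer (dres p H : Set X) := fun H hHG hne hAH hH =>
    ih (Nat.card ↥H) (hcard ▸ lt_of_le_of_ne (card_le_of_le hHG) fun e => hne (eq_of_le_of_card_ge hHG e.ge))
      H A rfl hA hAH (hcop.coprime_dvd_left (card_dvd_of_le hHG)) hab hnc hH
  by_cases hfs : fs G = G
  swap
  · have hGn : G ≤ normalizer (fs G : Set X) := le_normalizer.trans (normalizer_le_normalizer_fs G)
    have h := ih' _ (fs_le G) hfs (hn.trans (normalizer_le_normalizer_fs G)) (hyp_of_normal hloc (fs_le G) hGn)
    have e : dres p (fs G) = dres p G := by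
      rw [dres, dres, fs_eq_inf (fs_le G) hGn, inf_idem]
    rwa [e] at h
  by_cases hres : ppGen p G = G
  swap
  · have hGn : G ≤ normalizer (ppGen p G : Set X) := le_normalizer.trans (normalizer_le_normalizer_ppGen G)
    have h := ih' _ (ppGen_le G) hres (hn.trans (normalizer_le_normalizer_ppGen G))
      (hyp_of_normal hloc (ppGen_le G) hGn)
    have e : dres p (ppGen p G) = dres p G := by
      rw [dres, dres, fs_eq_inf (ppGen_le G) hGn, hfs, inf_eq_right.2 (ppGen_le G), ppGen_ppGen]
    rwa [e] at h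
  have hdres : dres p G = G := by rw [dres, hfs, hres]
  have hGZ : G ≤ centralizer (pCoreOf p G : Set X) := by
    conv_lhs => rw [← hdres]
    exact dres_le_centralizer_op G
  by_cases hO : pCoreOf p G = ⊥
  · rw [hdres]
    exact le_centralizer_iff.1 (core hp hA hn hcop hnc hloc hO ih')
  set M : Subgroup X := G ⊔ A with hMdef
  have hGM : G ≤ M := le_sup_left
  have hAM : A ≤ M := le_sup_right
  have hMn : M ≤ normalizer (pCoreOf p G : Set X) :=
    (sup_le le_normalizer hn).trans (normalizer_le_normalizer_op G)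
  set G' := G.subgroupOf M with hG'
  set A' := A.subgroupOf M with hA'
  set Z := (pCoreOf p G).subgroupOf M with hZdef
  haveI hZn : Z.Normal := normal_subgroupOf_of_le_normalizer hMn
  have hZG : Z ≤ G' := fun x hx => op_le G hx
  have hZp : IsPGroup p ↥Z := (isPGroup_op G).comap_of_injective M.subtype M.subtype_injective
  have hZc : G' ≤ centralizer (Z : Set M) := fun g hg => mem_centralizer_iff.2 fun z hz =>
    Subtype.ext (mem_centralizer_iff.1 (hGZ hg) (z : X) hz)
  have hn' : A' ≤ normalizer (G' : Set M) := fun a ha => mem_normalizer_iff.2 fun x =>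
    mem_normalizer_iff.1 (hn ha) (x : X)
  have hA'r : IsPGroup r ↥A' := hA.comap_of_injective M.subtype M.subtype_injective
  have hcop' : (Nat.card ↥G').Coprime r := by rwa [card_subgroupOf hGM]
  haveI hab' : IsMulCommutative ↥A' := ⟨⟨fun a b => by
    apply Subtype.ext
    apply Subtype.ext
    have h := congrArg Subtype.val (hab.is_comm.comm (⟨((a : M) : X), a.2⟩ : A) ⟨((b : M) : X), b.2⟩)
    simpa using h⟩⟩
  set q := QuotientGroup.mk' Z with hq
  have hinj : Function.Injective (q.subgroupMap A') := by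
    refine (injective_iff_map_eq_one _).2 fun a ha => Subtype.ext ?_
    have h1 : (a : M) ∈ Z := (QuotientGroup.eq_one_iff _).1 (congrArg Subtype.val ha)
    exact mem_bot.1 ((CfsgLib.Base.inf_eq_bot_of_coprime
      (coprime_card hA'r hcop' hZG)).le ⟨a.2, h1⟩)
  have hnc' : ¬ IsCyclic ↥(A'.map q) := fun h => hnc (by
    let e : ↥A ≃* ↥(A'.map q) :=
      (subgroupOfEquivOfLe hAM).symm.trans
        (MulEquiv.ofBijective (q.subgroupMap A') ⟨hinj, q.subgroupMap_surjective A'⟩)
    exact isCyclic_of_surjective e.symm.toMonoidHom e.symm.surjective)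
  haveI habq : IsMulCommutative ↥(A'.map q) := ⟨⟨fun a b => by
    obtain ⟨a', rfl⟩ := q.subgroupMap_surjective A' a
    obtain ⟨b', rfl⟩ := q.subgroupMap_surjective A' b
    rw [← map_mul, ← map_mul, hab'.is_comm.comm]⟩⟩
  have hlt : Nat.card ↥(G'.map q) < n := by
    have h1 := CfsgLib.Base.card_comap_mk' Z (G'.map q)
    rw [hq, comap_map_mk', sup_eq_left.2 hZG] at h1
    rw [← hcard, ← card_subgroupOf hGM, ← hG', h1]
    have h2 : 1 < Nat.card ↥Z := by
      rw [hZdef, card_subgroupOf ((op_le G).trans hGM)]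
      exact (one_lt_card_iff_ne_bot _).2 hO
    exact (Nat.lt_mul_iff_one_lt_left Nat.card_pos).2 h2
  have hquot := ih _ hlt (G'.map q) (A'.map q) rfl (hA'r.map q)
    ((map_mono hn').trans (le_normalizer_map q)) (hcop'.coprime_dvd_left (Subgroup.card_map_dvd G' q)) habq hnc'
    (hyp_quotient hA'r hn' hcop' (hyp_subgroupOf hGM hloc) hZG hZp hZc)
  have hd' : dres p G' = G' := by
    refine map_injective M.subtype_injective ?_
    rw [← dres_map M.subtype_injective, map_subgroupOf_eq_of_le hGM, hdres]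
  rw [hdres, le_centralizer_iff]
  conv_lhs => rw [← hres]
  refine ppGen_le_iff.2 fun g hg hgc => mem_centralizer_iff.2 fun a ha => ?_
  have h1 : q ⟨g, hGM hg⟩ ∈ dres p (G'.map q) := by
    refine map_dres_le q G' (mem_map_of_mem q ?_)
    rw [hd']
    exact hg
  have h2 := mem_centralizer_iff.1 (hquot (mem_map_of_mem q (show (⟨a, hAM ha⟩ : M) ∈ A' from ha))) _ h1
  have h3 : (⟨a, hAM ha⟩ : M) * ⟨g, hGM hg⟩ * (⟨a, hAM ha⟩ : M)⁻¹ * (⟨g, hGM hg⟩ : M)⁻¹ ∈ Z := by
    rw [← QuotientGroup.eq_one_iff]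
    show q _ = 1
    rw [map_mul, map_mul, map_mul, map_inv, map_inv, ← h2]
    group
  exact commute_of_displaced (isPGroup_op G) hgc h3
    (mem_centralizer_iff.1 (hGZ hg) _ h3)

/-- A noncyclic abelian coprime group centralizing every local `O^p(F*)` centralizes `O^p(F*)`. -/
theorem balance (hp : 3 < p) {X : Type u} [Group X] [Finite X] {G A : Subgroup X} (hA : IsPGroup r ↥A)
    (hn : A ≤ normalizer (G : Set X)) (hcop : (Nat.card ↥G).Coprime r) (hab : IsMulCommutative ↥A)
    (hnc : ¬ IsCyclic ↥A) (hloc : Hyp p G A) : A ≤ centralizer (dres p G : Set X) :=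
  balance_aux hp _ G A rfl hA hn hcop hab hnc hloc

end CfsgLib.Flavell.Balance
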